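import Groth.Agent.Adeq2Lib.AffineVanish
import Groth.Prelude.Def_GmPts
import Groth.Prelude.Def_CGrpSh2

/-! Sections of the multiplicative group on the big fppf site are units. -/

set_option autoImplicit false

universe u

open CategoryTheory CategoryTheory.Limits AlgebraicGeometry Opposite
open scoped CategoryTheory.MonObj

noncomputable section

namespace Groth.Agent.FppfPic

open Groth.Agent.Adeq2Lib Groth.Agent.Adeq2Lib.AffVan

variable {S : Scheme.{u}}

/-- The multiplicative group as a sheaf. -/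
abbrev gm (S : Scheme.{u}) : AbT S := CGrpSh2.Gm Scheme.fppfPrecoverage S

/-- The section of a unit. -/
def gmSec {T : Over S} (v : Γ(T.left, ⊤)ˣ) : (gm S).obj.obj (op T) :=
  ULift.up (Additive.ofMul (GmPts.ptOfUnit v))

/-- The unit of a section. -/
def gmVal {T : Over S} (z : (gm S).obj.obj (op T)) : Γ(T.left, ⊤)ˣ :=
  GmPts.unitOfPt (Additive.toMul (ULift.down z))

theorem gmVal_gmSec {T : Over S} (v : Γ(T.left, ⊤)ˣ) : gmVal (gmSec v : (gm S).obj.obj (op T)) = v :=
  GmPts.unitOfPt_ptOfUnit v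

theorem gmVal_injective {T : Over S} :
    Function.Injective (gmVal : (gm S).obj.obj (op T) → Γ(T.left, ⊤)ˣ) := fun z w h =>
  ULift.ext _ _ (congrArg Additive.ofMul ((GmPts.equiv T).injective h))

theorem gmVal_add {T : Over S} (z w : (gm S).obj.obj (op T)) :
    gmVal (z + w) = gmVal z * gmVal w :=
  GmPts.unitOfPt_mul (Additive.toMul (ULift.down z)) (Additive.toMul (ULift.down w))

theorem gmVal_sub {T : Over S} (z w : (gm S).obj.obj (op T)) :
    gmVal (z - w) = gmVal z * (gmVal w)⁻¹ := by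
  rw [eq_mul_inv_iff_mul_eq, ← gmVal_add, sub_add_cancel]

theorem gmVal_map {T T' : Over S} (g : T' ⟶ T) (z : (gm S).obj.obj (op T)) :
    (gmVal (rA (gm S) g z) : Γ(T'.left, ⊤)) = g.left.appTop (gmVal z : Γ(T.left, ⊤)) :=
  congrArg Units.val (GmPts.unitOfPt_comp g (Additive.toMul (ULift.down z)))

theorem gmVal_map' {T T' : Over S} (g : T' ⟶ T) (z : (gm S).obj.obj (op T)) :
    gmVal (rA (gm S) g z) = Units.map g.left.appTop.hom.toMonoidHom (gmVal z) :=
  Units.ext (gmVal_map g z)

/-- An extension by the multiplicative group, seen on sections. -/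
structure GmExt (J Q : AbT S) where
  /-- The inclusion. -/
  i : gm S ⟶ J
  /-- The projection. -/
  π : J ⟶ Q
  epi : Epi π
  inj : ∀ U : Over S, Function.Injective (i.hom.app (op U)).hom
  exact : ∀ (U : Over S) (y : J.obj.obj (op U)),
    (π.hom.app (op U)).hom y = 0 ↔ ∃ x, (i.hom.app (op U)).hom x = y

/-- The extension of a short exact sequence starting at the multiplicative group. -/
def GmExt.ofShortExact {E : ShortComplex (AbT S)} (hE : E.ShortExact) (φ : gm S ≅ E.X₁) :
    GmExt E.X₂ E.X₃ where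
  i := φ.hom ≫ E.f
  π := E.g
  epi := hE.epi_g
  inj U := by
    intro a b h
    have h' := (secA_exact E hE U).1 h
    have := congrArg (φ.inv.hom.app (op U)).hom h'
    have e : ∀ z, (φ.inv.hom.app (op U)).hom ((φ.hom.hom.app (op U)).hom z) = z := fun z =>
      ConcreteCategory.congr_hom (congrArg (fun α : gm S ⟶ gm S => α.hom.app (op U)) φ.hom_inv_id) z
    exact (e a).symm.trans (this.trans (e b))
  exact U y := by
    rw [(secA_exact E hE U).2 y]
    have e : ∀ z, (φ.hom.hom.app (op U)).hom ((φ.inv.hom.app (op U)).hom z) = z := fun z =>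
      ConcreteCategory.congr_hom (congrArg (fun α : E.X₁ ⟶ E.X₁ => α.hom.app (op U)) φ.inv_hom_id) z
    constructor
    · rintro ⟨x, rfl⟩
      exact ⟨(φ.inv.hom.app (op U)).hom x, congrArg (E.f.hom.app (op U)).hom (e x)⟩
    · rintro ⟨x, rfl⟩
      exact ⟨(φ.hom.hom.app (op U)).hom x, rfl⟩

variable {J Q : AbT S} (E : GmExt J Q)

/-- The inclusion on sections. -/
abbrev GmExt.iA (T : Over S) : (gm S).obj.obj (op T) →+ J.obj.obj (op T) := (E.i.hom.app (op T)).hom

/-- The projection on sections. -/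
abbrev GmExt.πA (T : Over S) : J.obj.obj (op T) →+ Q.obj.obj (op T) := (E.π.hom.app (op T)).hom

theorem GmExt.iA_map {T T' : Over S} (g : T' ⟶ T) (z : (gm S).obj.obj (op T)) :
    E.iA T' (rA (gm S) g z) = rA J g (E.iA T z) :=
  ConcreteCategory.congr_hom (E.i.hom.naturality g.op) z

theorem GmExt.πA_map {T T' : Over S} (g : T' ⟶ T) (z : J.obj.obj (op T)) :
    E.πA T' (rA J g z) = rA Q g (E.πA T z) :=
  ConcreteCategory.congr_hom (E.π.hom.naturality g.op) z

theorem GmExt.πA_iA {T : Over S} (z : (gm S).obj.obj (op T)) : E.πA T (E.iA T z) = 0 :=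
  (E.exact T _).2 ⟨z, rfl⟩

end Groth.Agent.FppfPic
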