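import Groth.Agent.FppfPic.GaExt

/-! `H¹` of the dual of the additive group over a reduced scheme. -/

set_option autoImplicit false

universe u

open CategoryTheory CategoryTheory.Limits AlgebraicGeometry Opposite TopologicalSpace Abelian
  MonoidalCategory CartesianMonoidalCategory
open scoped CategoryTheory.MonObj

noncomputable section

namespace Groth.Agent.FppfPic

open Groth.Agent.Adeq2Lib Groth.Agent.Adeq2Lib.AffVan

variable {X : Scheme.{u}} (A : Over X)

/-- `T ×_X A` as an object over `X`. -/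
abbrev prodO (T : Over X) : Over X := Over.mk (pullback.fst T.hom A.hom ≫ T.hom)

/-- The first projection. -/
abbrev pT (T : Over X) : prodO A T ⟶ T := Over.homMk (pullback.fst T.hom A.hom) rfl

/-- The second projection. -/
abbrev xA (T : Over X) : prodO A T ⟶ A :=
  Over.homMk (pullback.snd T.hom A.hom) pullback.condition.symm

/-- The morphism to `T ×_X A`. -/
def pairO {T T' : Over X} (f : T' ⟶ T) (x : T' ⟶ A) : T' ⟶ prodO A T :=
  Over.homMk (pullback.lift f.left x.left ((Over.w f).trans (Over.w x).symm)) (by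
    show pullback.lift _ _ _ ≫ pullback.fst T.hom A.hom ≫ T.hom = _
    rw [pullback.lift_fst_assoc]
    exact Over.w f)

theorem pairO_pT {T T' : Over X} (f : T' ⟶ T) (x : T' ⟶ A) : pairO A f x ≫ pT A T = f :=
  Over.OverMorphism.ext (pullback.lift_fst _ _ _)

theorem pairO_xA {T T' : Over X} (f : T' ⟶ T) (x : T' ⟶ A) : pairO A f x ≫ xA A T = x :=
  Over.OverMorphism.ext (pullback.lift_snd _ _ _)

theorem hom_ext_prodO {T T' : Over X} {a b : T' ⟶ prodO A T} (h₁ : a ≫ pT A T = b ≫ pT A T)
    (h₂ : a ≫ xA A T = b ≫ xA A T) : a = b :=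
  Over.OverMorphism.ext (pullback.hom_ext (congrArg CommaMorphism.left h₁)
    (congrArg CommaMorphism.left h₂))

theorem pairO_self (T : Over X) : pairO A (pT A T) (xA A T) = 𝟙 _ :=
  hom_ext_prodO A ((pairO_pT A _ _).trans (Category.id_comp _).symm)
    ((pairO_xA A _ _).trans (Category.id_comp _).symm)

theorem comp_pairO {T T' T'' : Over X} (g : T'' ⟶ T') (f : T' ⟶ T) (x : T' ⟶ A) :
    g ≫ pairO A f x = pairO A (g ≫ f) (g ≫ x) :=
  hom_ext_prodO A (by rw [Category.assoc, pairO_pT, pairO_pT])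
    (by rw [Category.assoc, pairO_xA, pairO_xA])

theorem pairO_pairO {T T' W : Over X} (f : T' ⟶ T) (g : W ⟶ T') (x : W ⟶ A) :
    pairO A g x ≫ pairO A (pT A T' ≫ f) (xA A T') = pairO A (g ≫ f) x := by
  rw [comp_pairO, ← Category.assoc, pairO_pT, pairO_xA]

/-- The functions on `T ×_X A` as a sheaf on `X`. -/
abbrev PA : AbT X :=
  (BigSite.pushBig Scheme.fppfPrecoverage A.hom AddCommGrpCat.{u + 1}).obj (gm A.left)

/-- The unit of a section of `PA`. -/
def valP {T : Over X} (z : (PA A).obj.obj (op T)) : Γ(pullback T.hom A.hom, ⊤)ˣ :=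
  gmVal (S := A.left) (T := (Over.pullback A.hom).obj T) z

/-- The unit of a section over `T ×_X A`. -/
def valX {T : Over X} (z : (gm X).obj.obj (op (prodO A T))) : Γ(pullback T.hom A.hom, ⊤)ˣ :=
  gmVal (S := X) (T := prodO A T) z

/-- The section of `PA` of a unit. -/
def secP {T : Over X} (v : Γ(pullback T.hom A.hom, ⊤)ˣ) : (PA A).obj.obj (op T) :=
  gmSec (S := A.left) (T := (Over.pullback A.hom).obj T) v

/-- The section over `T ×_X A` of a unit. -/
def secX {T : Over X} (v : Γ(pullback T.hom A.hom, ⊤)ˣ) : (gm X).obj.obj (op (prodO A T)) :=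
  gmSec (S := X) (T := prodO A T) v

theorem valP_secP {T : Over X} (v : Γ(pullback T.hom A.hom, ⊤)ˣ) :
    valP A (secP A v : (PA A).obj.obj (op T)) = v :=
  gmVal_gmSec (S := A.left) (T := (Over.pullback A.hom).obj T) v

theorem valX_secX {T : Over X} (v : Γ(pullback T.hom A.hom, ⊤)ˣ) :
    valX A (secX A v : (gm X).obj.obj (op (prodO A T))) = v :=
  gmVal_gmSec (S := X) (T := prodO A T) v

theorem valP_injective {T : Over X} {z w : (PA A).obj.obj (op T)} (h : valP A z = valP A w) : z = w :=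
  gmVal_injective (S := A.left) (T := (Over.pullback A.hom).obj T) h

theorem valX_injective {T : Over X} {z w : (gm X).obj.obj (op (prodO A T))}
    (h : valX A z = valX A w) : z = w :=
  gmVal_injective (S := X) (T := prodO A T) h

theorem valP_add {T : Over X} (z w : (PA A).obj.obj (op T)) :
    valP A (z + w) = valP A z * valP A w :=
  gmVal_add (S := A.left) (T := (Over.pullback A.hom).obj T) z w

theorem valX_add {T : Over X} (z w : (gm X).obj.obj (op (prodO A T))) :
    valX A (z + w) = valX A z * valX A w :=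
  gmVal_add (S := X) (T := prodO A T) z w

/-- The section of `PA` given by a section over `T ×_X A`. -/
def toP {T : Over X} (z : (gm X).obj.obj (op (prodO A T))) : (PA A).obj.obj (op T) :=
  secP A (valX A z)

/-- The section over `T ×_X A` of a section of `PA`. -/
def ofP {T : Over X} (z : (PA A).obj.obj (op T)) : (gm X).obj.obj (op (prodO A T)) :=
  secX A (valP A z)

theorem toP_ofP {T : Over X} (z : (PA A).obj.obj (op T)) : toP A (ofP A z) = z :=
  valP_injective A (by rw [toP, valP_secP, ofP, valX_secX])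

theorem ofP_toP {T : Over X} (z : (gm X).obj.obj (op (prodO A T))) : ofP A (toP A z) = z :=
  valX_injective A (by rw [ofP, valX_secX, toP, valP_secP])

theorem toP_add {T : Over X} (z w : (gm X).obj.obj (op (prodO A T))) :
    toP A (z + w) = toP A z + toP A w :=
  valP_injective A (by rw [valP_add, toP, toP, toP, valP_secP, valP_secP, valP_secP, valX_add])

theorem toP_zero {T : Over X} : toP A (0 : (gm X).obj.obj (op (prodO A T))) = 0 :=
  add_left_cancel (a := toP A (0 : (gm X).obj.obj (op (prodO A T))))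
    (by rw [← toP_add, add_zero, add_zero])

theorem ofP_add {T : Over X} (z w : (PA A).obj.obj (op T)) :
    ofP A (z + w) = ofP A z + ofP A w := by
  conv_lhs => rw [← toP_ofP A z, ← toP_ofP A w, ← toP_add, ofP_toP]

theorem toP_map {T T' : Over X} (f : T' ⟶ T) (z : (gm X).obj.obj (op (prodO A T))) :
    rA (PA A) f (toP A z) = toP A (rA (gm X) (pairO A (pT A T' ≫ f) (xA A T')) z) := by
  refine valP_injective A (Units.ext ?_)
  refine (gmVal_map (S := A.left) ((Over.pullback A.hom).map f) (toP A z)).trans ?_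
  show ((Over.pullback A.hom).map f).left.appTop (valP A (toP A z)).1 = (valP A (toP A _)).1
  rw [toP, valP_secP, toP, valP_secP]
  refine Eq.trans ?_ (gmVal_map (pairO A (pT A T' ≫ f) (xA A T')) z).symm
  have he : ((Over.pullback A.hom).map f).left = (pairO A (pT A T' ≫ f) (xA A T')).left := by
    refine pullback.hom_ext ?_ ?_
    · refine Eq.trans ?_ (pullback.lift_fst _ _ _).symm
      dsimp only [Over.pullback]
      exact pullback.lift_fst _ _ _
    · refine Eq.trans ?_ (pullback.lift_snd _ _ _).symm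
      dsimp only [Over.pullback]
      exact pullback.lift_snd _ _ _
  exact congrArg (fun φ : (prodO A T').left ⟶ (prodO A T).left => φ.appTop (valX A z).1) he

theorem ofP_map {T T' : Over X} (f : T' ⟶ T) (z : (PA A).obj.obj (op T)) :
    ofP A (rA (PA A) f z) = rA (gm X) (pairO A (pT A T' ≫ f) (xA A T')) (ofP A z) := by
  conv_lhs => rw [← toP_ofP A z, toP_map, ofP_toP]

/-- The dual of the additive group. -/
abbrev gd (X : Scheme.{u}) : AbT X := CGrpSh2.dualSh Scheme.fppfPrecoverage (ga X)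

/-- The value of a character. -/
def chVal {T T' : Over X} (χ : (gd X).obj.obj (op T)) (f : T' ⟶ T) (x : T' ⟶ Red.Ga X) :
    (gm X).obj.obj (op T') :=
  ((show (ga X).over T ⟶ (gm X).over T from χ).hom.app (op (Over.mk f))).hom (gaSec x)

theorem chVal_comp {T T' T'' : Over X} (χ : (gd X).obj.obj (op T)) (g : T'' ⟶ T') (f : T' ⟶ T)
    (x : T' ⟶ Red.Ga X) : chVal χ (g ≫ f) (g ≫ x) = rA (gm X) g (chVal χ f x) :=
  ConcreteCategory.congr_hom ((show (ga X).over T ⟶ (gm X).over T from χ).hom.naturality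
    (Over.homMk g rfl : Over.mk (g ≫ f) ⟶ Over.mk f).op) (gaSec x)

theorem chVal_mul {T T' : Over X} (χ : (gd X).obj.obj (op T)) (f : T' ⟶ T) (x y : T' ⟶ Red.Ga X) :
    chVal χ f (x * y) = chVal χ f x + chVal χ f y :=
  map_add ((show (ga X).over T ⟶ (gm X).over T from χ).hom.app (op (Over.mk f))).hom (gaSec x) (gaSec y)

theorem chVal_map {T T' W : Over X} (χ : (gd X).obj.obj (op T)) (f : T' ⟶ T) (g : W ⟶ T')
    (x : W ⟶ Red.Ga X) : chVal (rA (gd X) f χ) g x = chVal χ (g ≫ f) x := rfl

theorem chVal_eq {T T' : Over X} (χ : (gd X).obj.obj (op T)) (f : T' ⟶ T) (x : T' ⟶ Red.Ga X) :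
    chVal χ f x = rA (gm X) (pairO (Red.Ga X) f x) (chVal χ (pT _ T) (xA _ T)) := by
  rw [← chVal_comp, pairO_pT, pairO_xA]

/-- The universal value of a character. -/
def evP : gd X ⟶ PA (Red.Ga X) :=
  ⟨{ app := fun T => AddCommGrpCat.ofHom (AddMonoidHom.mk'
      (fun χ => toP (Red.Ga X) (chVal χ (pT _ T.unop) (xA _ T.unop)))
      (fun χ χ' => (congrArg (toP (Red.Ga X)) (rfl : _ =
        chVal χ (pT _ T.unop) (xA _ T.unop) + chVal χ' (pT _ T.unop) (xA _ T.unop))).trans
        (toP_add _ _ _)))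
     naturality := fun T T' g => AddCommGrpCat.ext fun χ => by
       show toP _ (chVal (rA (gd X) g.unop χ) _ _) = rA (PA _) g.unop (toP _ _)
       rw [toP_map, chVal_map]
       exact congrArg _ (chVal_eq χ _ _) }⟩

theorem evP_injective (T : Over X) : Function.Injective (evP.hom.app (op T)).hom := by
  intro χ χ' h
  have h1 : chVal χ (pT _ T) (xA _ T) = chVal χ' (pT _ T) (xA _ T) := by
    have := congrArg (ofP (Red.Ga X)) (show toP (Red.Ga X) (chVal χ (pT _ T) (xA _ T)) = toP (Red.Ga X) (chVal χ' (pT _ T) (xA _ T)) from h)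
    rwa [ofP_toP, ofP_toP] at this
  refine Sheaf.hom_ext (NatTrans.ext (funext fun U => AddCommGrpCat.ext fun x => ?_))
  show chVal χ U.unop.hom (Additive.toMul (ULift.down x)) = chVal χ' U.unop.hom _
  rw [chVal_eq, h1, ← chVal_eq]
  rfl

/-- The pairs of points of the additive group. -/
abbrev A2 (X : Scheme.{u}) : Over X := Red.Ga X ⊗ Red.Ga X

/-- The failure of additivity. -/
def defect {T T' : Over X} (z : (gm X).obj.obj (op (prodO (Red.Ga X) T))) (f : T' ⟶ T)
    (x y : T' ⟶ Red.Ga X) : (gm X).obj.obj (op T') :=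
  rA (gm X) (pairO _ f (x * y)) z - rA (gm X) (pairO _ f x) z - rA (gm X) (pairO _ f y) z

theorem defect_comp {T T' T'' : Over X} (z : (gm X).obj.obj (op (prodO (Red.Ga X) T)))
    (g : T'' ⟶ T') (f : T' ⟶ T) (x y : T' ⟶ Red.Ga X) :
    defect z (g ≫ f) (g ≫ x) (g ≫ y) = rA (gm X) g (defect z f x y) := by
  rw [defect, defect, map_sub, map_sub, rA_comp, rA_comp, rA_comp, comp_pairO, comp_pairO,
    comp_pairO, MonObj.comp_mul]

theorem defect_add {T T' : Over X} (z w : (gm X).obj.obj (op (prodO (Red.Ga X) T))) (f : T' ⟶ T)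
    (x y : T' ⟶ Red.Ga X) : defect (z + w) f x y = defect z f x y + defect w f x y := by
  rw [defect, defect, defect, map_add, map_add, map_add]
  abel

/-- The universal failure of additivity. -/
def defP : PA (Red.Ga X) ⟶ PA (A2 X) :=
  ⟨{ app := fun T => AddCommGrpCat.ofHom (AddMonoidHom.mk'
      (fun a => toP (A2 X) (defect (ofP (Red.Ga X) a) (pT _ T.unop) (xA (A2 X) T.unop ≫ fst _ _)
        (xA (A2 X) T.unop ≫ snd _ _)))
      (fun (a b : (PA (Red.Ga X)).obj.obj (op T.unop)) => by
        refine Eq.trans (congrArg (toP (A2 X)) ?_) (toP_add _ _ _)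
        exact ((congrArg (fun z => defect z _ _ _) (ofP_add (Red.Ga X) a b)).trans
          (defect_add _ _ _ _ _))))
     naturality := fun T T' g => AddCommGrpCat.ext fun a => by
       show toP _ (defect (ofP _ (rA _ g.unop a)) _ _ _) = rA _ g.unop (toP _ _)
       rw [toP_map]
       refine congrArg _ ?_
       rw [← defect_comp]
       simp only [defect, ofP_map, rA_comp, pairO_pairO, ← Category.assoc, pairO_pT, pairO_xA] }⟩

theorem defP_apply {T T' : Over X} (a : (PA (Red.Ga X)).obj.obj (op T)) (f : T' ⟶ T)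
    (x y : T' ⟶ Red.Ga X) :
    defect (ofP _ a) f x y =
      rA (gm X) (pairO (A2 X) f (lift x y)) (ofP _ ((defP.hom.app (op T)).hom a)) := by
  show _ = rA (gm X) _ (ofP _ (toP _ _))
  rw [ofP_toP, ← defect_comp, pairO_pT, ← Category.assoc, pairO_xA, ← Category.assoc, pairO_xA,
    lift_fst, lift_snd]

theorem evP_defP : (evP : gd X ⟶ _) ≫ defP = 0 := by
  refine Sheaf.hom_ext (NatTrans.ext (funext fun T => AddCommGrpCat.ext fun χ => ?_))
  show toP _ (defect (ofP _ (toP _ _)) _ _ _) = 0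
  rw [ofP_toP, defect, ← chVal_eq, ← chVal_eq, ← chVal_eq, chVal_mul]
  exact (congrArg (toP (A2 X)) (by abel)).trans (toP_zero (A2 X))

theorem exists_char {T : Over X} (a : (PA (Red.Ga X)).obj.obj (op T))
    (ha : (defP.hom.app (op T)).hom a = 0) : ∃ χ, (evP.hom.app (op T)).hom χ = a := by
  have h0 : ∀ (T' : Over X) (f : T' ⟶ T) (x y : T' ⟶ Red.Ga X), defect (ofP _ a) f x y = 0 := by
    intro T' f x y
    rw [defP_apply, ha]
    have hz : ofP (A2 X) (0 : (PA (A2 X)).obj.obj (op T)) = 0 := by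
      refine add_left_cancel (a := ofP (A2 X) (0 : (PA (A2 X)).obj.obj (op T))) ?_
      rw [← ofP_add, add_zero, add_zero]
    rw [hz, map_zero]
  let χ : (ga X).over T ⟶ (gm X).over T :=
    ⟨{ app := fun U => AddCommGrpCat.ofHom (AddMonoidHom.mk'
        (fun x : (ga X).obj.obj (op U.unop.left) =>
          rA (gm X) (pairO _ U.unop.hom (Additive.toMul (ULift.down x))) (ofP _ a))
        (fun x y => by
          show rA (gm X) (pairO _ U.unop.hom (Additive.toMul (ULift.down x) * Additive.toMul (ULift.down y))) _ = _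
          have := h0 _ U.unop.hom (Additive.toMul (ULift.down x)) (Additive.toMul (ULift.down y))
          rw [defect, sub_sub, sub_eq_zero] at this
          exact this))
       naturality := fun U U' g => AddCommGrpCat.ext fun x => by
         show rA (gm X) (pairO _ U'.unop.hom (g.unop.left ≫ Additive.toMul (ULift.down x))) (ofP _ a) =
           rA (gm X) g.unop.left (rA (gm X) _ (ofP _ a))
         rw [rA_comp, comp_pairO, Over.w g.unop] }⟩
  refine ⟨χ, ?_⟩
  show toP _ (rA (gm X) (pairO _ (pT _ T) (xA _ T)) (ofP _ a)) = a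
  rw [pairO_self, rA_id, toP_ofP]

theorem subsingleton_H_PA
    (hPic : ∀ L : A.left.Modules, PicF.IsInvertible L → Nonempty (L ≅ Coh.structureModule A.left)) :
    Subsingleton (BigSite.H Scheme.fppfPrecoverage X (PA A) 1) := by
  let adj := BigSite.bigAdj Scheme.fppfPrecoverage A.hom AddCommGrpCat.{u + 1}
  haveI : (BigSite.pullBig Scheme.fppfPrecoverage A.hom AddCommGrpCat.{u + 1}).PreservesMonomorphisms :=
    ⟨fun {F G} φ _ => by
      have h : ∀ U, Function.Injective (φ.hom.app U).hom := fun U => by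
        haveI : Mono ((secA U.unop).map φ) := inferInstance
        exact (AddCommGrpCat.mono_iff_injective ((secA U.unop).map φ)).1 inferInstance
      refine (sheafToPresheaf _ _).mono_of_mono_map ?_
      exact @NatTrans.mono_of_mono_app _ _ _ _ _ _ _ fun V =>
        (AddCommGrpCat.mono_iff_injective _).2 (h _)⟩
  haveI : (BigSite.pushBig Scheme.fppfPrecoverage A.hom AddCommGrpCat.{u + 1}).IsRightAdjoint :=
    adj.isRightAdjoint
  let P := Classical.arbitrary (InjectivePresentation (gm A.left))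
  have hE := P.shortExact_shortComplex
  let push := BigSite.pushBig Scheme.fppfPrecoverage A.hom AddCommGrpCat.{u + 1}
  haveI : Mono P.shortComplex.f := hE.mono_f
  haveI : Mono (push.map P.shortComplex.f) := inferInstance
  haveI : Injective (push.obj P.J) := Injective.injective_of_adjoint adj P.J
  let S' : ShortComplex (AbT X) :=
    ShortComplex.mk (push.map P.shortComplex.f) (cokernel.π (push.map P.shortComplex.f))
      (cokernel.condition _)
  have hS' : S'.ShortExact :=
    { exact := ShortComplex.exact_cokernel _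
      mono_f := inferInstanceAs (Mono (push.map P.shortComplex.f)) }
  let j : S'.X₃ ⟶ push.obj P.shortComplex.X₃ := cokernel.desc _ (push.map P.shortComplex.g) (by
    rw [← Functor.map_comp, P.shortComplex.zero, Functor.map_zero])
  have hπj : S'.g ≫ j = push.map P.shortComplex.g := cokernel.π_desc _ _ _
  have hT : IsTerminal (Over.mk (𝟙 X)) := Over.mkIdTerminal
  let U₀ : Over A.left := (Over.pullback A.hom).obj (Over.mk (𝟙 X))
  let Y1 : Over A.left := Over.mk (𝟙 A.left)
  have hw : A.hom ≫ 𝟙 X = 𝟙 A.left ≫ A.hom := by rw [Category.id_comp, Category.comp_id]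
  have hli : pullback.lift A.hom (𝟙 A.left) hw ≫ pullback.snd (𝟙 X) A.hom = 𝟙 A.left := pullback.lift_snd _ _ _
  have hil : pullback.snd (𝟙 X) A.hom ≫ pullback.lift A.hom (𝟙 A.left) hw = 𝟙 _ := by
    refine pullback.hom_ext ?_ ?_
    · rw [Category.assoc, pullback.lift_fst, ← pullback.condition, Category.comp_id, Category.id_comp]
    · rw [Category.assoc, pullback.lift_snd, Category.comp_id, Category.id_comp]
  let eh : U₀ ⟶ Y1 := Over.homMk (pullback.snd (𝟙 X) A.hom) (Category.comp_id _)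
  let ei : Y1 ⟶ U₀ := Over.homMk (pullback.lift A.hom (𝟙 A.left) hw) hli
  have hei : eh ≫ ei = 𝟙 U₀ := Over.OverMorphism.ext hil
  refine subsingleton_of_forall_eq 0 fun x => ?_
  obtain ⟨r, rfl⟩ := Ext.covariant_sequence_exact₁ _ hS' x
    ((Ext.eq_zero_of_injective (I := push.obj P.J) _)) (n₀ := 0) rfl
  suffices hs : ∃ t, (S'.g.hom.app (op (Over.mk (𝟙 X)))).hom t = Sheaf.H.equiv₀ S'.X₃ hT r by
    obtain ⟨t, ht⟩ := hs
    have hr : r = Sheaf.H.map S'.g 0 ((Sheaf.H.equiv₀ S'.X₂ hT).symm t) := by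
      refine (Sheaf.H.equiv₀ S'.X₃ hT).injective ?_
      rw [← Sheaf.H.equiv₀_naturality, AddEquiv.apply_symm_apply]
      exact ht.symm
    rw [hr, Sheaf.H.map_apply, Ext.comp_assoc_of_second_deg_zero, hS'.comp_extClass, Ext.comp_zero]
  set r₀ := Sheaf.H.equiv₀ S'.X₃ hT r
  let s₀ : P.shortComplex.X₃.obj.obj (op U₀) := (j.hom.app (op (Over.mk (𝟙 X)))).hom r₀
  let E := GmExt.ofShortExact hE (Iso.refl _)
  obtain ⟨σ', hσ'⟩ := exists_lift Y1 E hPic (rA P.shortComplex.X₃ ei s₀)
  have hσ : E.πA U₀ (rA P.shortComplex.X₂ eh σ') = s₀ := by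
    rw [E.πA_map, hσ', rA_comp, hei, rA_id]
  refine ⟨rA P.shortComplex.X₂ eh σ', ?_⟩
  haveI : PreservesLimit (parallelPair P.shortComplex.g 0) push := inferInstance
  haveI : Mono j := (hE.exact.map_of_mono_of_preservesKernel push ‹_› ‹_›).mono_cokernelDesc
  refine (AddCommGrpCat.mono_iff_injective ((secA (Over.mk (𝟙 X))).map j)).1 inferInstance ?_
  refine Eq.trans ?_ hσ
  exact ConcreteCategory.congr_hom (congrArg (fun φ : _ ⟶ push.obj P.shortComplex.X₃ =>
    φ.hom.app (op (Over.mk (𝟙 X)))) hπj) _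

theorem subsingleton_H_dual [IsReduced X]
    (hPic : ∀ L : (Red.Ga X).left.Modules, PicF.IsInvertible L →
      Nonempty (L ≅ Coh.structureModule (Red.Ga X).left)) :
    Subsingleton (BigSite.H Scheme.fppfPrecoverage X (gd X) 1) := by
  haveI : Mono (evP : gd X ⟶ _) := by
    refine (sheafToPresheaf _ _).mono_of_mono_map ?_
    exact @NatTrans.mono_of_mono_app _ _ _ _ _ _ _ fun V =>
      (AddCommGrpCat.mono_iff_injective _).2 (evP_injective V.unop)
  let S' : ShortComplex (AbT X) := ShortComplex.mk evP (cokernel.π evP) (cokernel.condition _)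
  have hS' : S'.ShortExact :=
    { exact := ShortComplex.exact_cokernel _
      mono_f := inferInstanceAs (Mono (evP : gd X ⟶ _)) }
  haveI : Epi S'.g := inferInstanceAs (Epi (cokernel.π (evP : gd X ⟶ _)))
  let dK : S'.X₃ ⟶ PA (A2 X) := cokernel.desc _ defP evP_defP
  have hdK : S'.g ≫ dK = defP := cokernel.π_desc _ _ _
  haveI := subsingleton_H_PA (Red.Ga X) hPic
  let T₀ : Over X := Over.mk (𝟙 X)
  have hT : IsTerminal T₀ := Over.mkIdTerminal
  refine subsingleton_of_forall_eq 0 fun x => ?_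
  obtain ⟨r, rfl⟩ := Ext.covariant_sequence_exact₁ _ hS' x
    (Subsingleton.elim (α := Sheaf.H S'.X₂ 1) _ 0) (n₀ := 0) rfl
  suffices hs : ∃ t, (S'.g.hom.app (op T₀)).hom t = Sheaf.H.equiv₀ S'.X₃ hT r by
    obtain ⟨t, ht⟩ := hs
    have hr : r = Sheaf.H.map S'.g 0 ((Sheaf.H.equiv₀ S'.X₂ hT).symm t) := by
      refine (Sheaf.H.equiv₀ S'.X₃ hT).injective ?_
      rw [← Sheaf.H.equiv₀_naturality, AddEquiv.apply_symm_apply]
      exact ht.symm
    rw [hr, Sheaf.H.map_apply, Ext.comp_assoc_of_second_deg_zero, hS'.comp_extClass, Ext.comp_zero]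
  set κ := Sheaf.H.equiv₀ S'.X₃ hT r
  let dκ : (gm X).obj.obj (op (prodO (A2 X) T₀)) := ofP _ ((dK.hom.app (op T₀)).hom κ)
  let F : ∀ W : Over X, (W ⟶ Red.Ga X) → (W ⟶ Red.Ga X) → (gm X).obj.obj (op W) := fun W a b =>
    rA (gm X) (pairO (A2 X) (hT.from W) (lift a b)) dκ
  have hF : ∀ {W W' : Over X} (g : W' ⟶ W) (a b : W ⟶ Red.Ga X),
      F W' (g ≫ a) (g ≫ b) = rA (gm X) g (F W a b) := by
    intro W W' g a b
    show rA _ _ dκ = rA _ g (rA _ _ dκ)
    rw [rA_comp, comp_pairO, comp_lift, hT.hom_ext (hT.from W') (g ≫ hT.from W)]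
  have hconst : ∀ (W : Over X) (a b : W ⟶ Red.Ga X), F W a b = F W 1 1 := fun W a b =>
    gmVal_injective (natural_unit_const (fun W a b => gmVal (F W a b))
      (fun g a b => by rw [hF, gmVal_map]) W a b)
  have hε : dκ = rA (gm X) (pT (A2 X) T₀) (F T₀ 1 1) := by
    have h1 : dκ = F (prodO (A2 X) T₀) (xA (A2 X) T₀ ≫ fst _ _) (xA (A2 X) T₀ ≫ snd _ _) := by
      show dκ = rA (gm X) _ dκ
      rw [← comp_lift, lift_fst_snd, Category.comp_id,
        hT.hom_ext (hT.from _) (pT (A2 X) T₀), pairO_self, rA_id]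
    rw [← hF, MonObj.comp_one]
    exact h1.trans (hconst _ _ _)
  let c : (PA (Red.Ga X)).obj.obj (op T₀) := toP _ (rA (gm X) (pT (Red.Ga X) T₀) (F T₀ 1 1))
  let κ' := κ + (S'.g.hom.app (op T₀)).hom c
  have hdκ' : (dK.hom.app (op T₀)).hom κ' = 0 := by
    rw [map_add]
    have e1 : (dK.hom.app (op T₀)).hom κ = toP (A2 X) dκ := (toP_ofP _ _).symm
    have e2 : (dK.hom.app (op T₀)).hom ((S'.g.hom.app (op T₀)).hom c) = (defP.hom.app (op T₀)).hom c :=
      ConcreteCategory.congr_hom (congrArg (fun φ : _ ⟶ PA (A2 X) => φ.hom.app (op T₀)) hdK) c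
    rw [e1, e2]
    show toP _ dκ + toP _ (defect (ofP _ (toP _ _)) _ _ _) = 0
    generalize F T₀ 1 1 = e at hε
    have hp : ∀ x' : prodO (A2 X) T₀ ⟶ Red.Ga X,
        rA (gm X) (pairO (Red.Ga X) (pT (A2 X) T₀) x') (rA (gm X) (pT (Red.Ga X) T₀) e) = dκ :=
      fun x' => by rw [rA_comp, pairO_pT, hε]
    rw [ofP_toP, defect, hp, hp, hp, ← toP_add]
    exact (congrArg (toP (A2 X)) (by abel)).trans (toP_zero (A2 X))
  suffices hκ' : κ' = 0 by
    refine ⟨-c, ?_⟩
    rw [map_neg]
    exact (eq_neg_of_add_eq_zero_left hκ').symm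
  have hloc := ((Sheaf.isLocallySurjective_iff_epi' AddCommGrpCat.{u + 1} S'.g).2
    inferInstance).imageSieve_mem (U := T₀) κ'
  have hsep := ((isSheaf_iff_isSheaf_of_type _ _).1
    ((Presheaf.isSheaf_iff_isSheaf_forget (QuotSh.J Scheme.fppfPrecoverage X) _
      (CategoryTheory.forget AddCommGrpCat.{u + 1})).1 S'.X₃.property) _ hloc).isSeparatedFor
  refine hsep.ext (P := S'.X₃.obj ⋙ CategoryTheory.forget AddCommGrpCat.{u + 1})
    fun W g hg => ?_
  obtain ⟨a, ha⟩ := hg
  have hda : (defP.hom.app (op W)).hom a = 0 := by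
    rw [← hdK]
    show (dK.hom.app (op W)).hom ((S'.g.hom.app (op W)).hom a) = 0
    refine (congrArg (dK.hom.app (op W)).hom ha).trans ?_
    refine (ConcreteCategory.congr_hom (dK.hom.naturality g.op) κ').trans ?_
    exact (congrArg (rA (PA (A2 X)) g) hdκ').trans (map_zero _)
  obtain ⟨χ, hχ⟩ := exists_char a hda
  show rA S'.X₃ g κ' = rA S'.X₃ g 0
  rw [map_zero]
  refine ha.symm.trans ?_
  refine (congrArg (S'.g.hom.app (op W)).hom hχ.symm).trans ?_
  exact ConcreteCategory.congr_hom (congrArg (fun φ : gd X ⟶ S'.X₃ => φ.hom.app (op W)) S'.zero) χ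

end Groth.Agent.FppfPic
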