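import Mathlib.AlgebraicGeometry.Morphisms.UniversallyOpen
import Mathlib.AlgebraicGeometry.PullbackCarrier
import Mathlib.RingTheory.Flat.Basic
import Mathlib.RingTheory.TensorProduct.Maps

/-! A unit cocycle on a faithfully flat cover of finite presentation is Zariski locally a coboundary. -/

set_option autoImplicit false

universe u

open TensorProduct CategoryTheory AlgebraicGeometry CategoryTheory.Limits

namespace Groth.Agent.FppfPic

variable (A B : Type u) [CommRing A] [CommRing B] [Algebra A B]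

/-- `b ⊗ c ↦ b ⊗ c ⊗ 1`. -/
noncomputable abbrev in12 : B ⊗[A] B →ₐ[A] B ⊗[A] (B ⊗[A] B) :=
  Algebra.TensorProduct.map (AlgHom.id A B) Algebra.TensorProduct.includeLeft
/-- `b ⊗ c ↦ b ⊗ 1 ⊗ c`. -/
noncomputable abbrev in13 : B ⊗[A] B →ₐ[A] B ⊗[A] (B ⊗[A] B) :=
  Algebra.TensorProduct.map (AlgHom.id A B) Algebra.TensorProduct.includeRight
/-- `b ⊗ c ↦ 1 ⊗ b ⊗ c`. -/
noncomputable abbrev in23 : B ⊗[A] B →ₐ[A] B ⊗[A] (B ⊗[A] B) :=
  Algebra.TensorProduct.includeRight

variable {A B}

/-- The functions on the cover transforming by `u`. -/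
noncomputable def twisted (u : B ⊗[A] B) : B →ₗ[A] B ⊗[A] B :=
  (LinearMap.mulLeft A u) ∘ₗ (Algebra.TensorProduct.includeLeft : B →ₐ[A] B ⊗[A] B).toLinearMap -
    (Algebra.TensorProduct.includeRight : B →ₐ[A] B ⊗[A] B).toLinearMap

theorem twisted_apply (u : B ⊗[A] B) (c : B) :
    twisted u c = u * (c ⊗ₜ 1) - 1 ⊗ₜ c := rfl

theorem lTensor_twisted (u z : B ⊗[A] B) :
    LinearMap.lTensor B (twisted u) z = in23 A B u * in12 A B z - in13 A B z := by
  induction z using TensorProduct.induction_on with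
  | zero => simp only [map_zero, mul_zero, sub_zero]
  | add x y hx hy => simp only [map_add, mul_add, hx, hy]; abel
  | tmul b c =>
    rw [LinearMap.lTensor_tmul, twisted_apply, TensorProduct.tmul_sub]
    congr 1
    induction u using TensorProduct.induction_on with
    | zero => simp
    | add x y hx hy => simp only [map_add, add_mul, TensorProduct.tmul_add, hx, hy]
    | tmul p q => simp

theorem span_twisted_eq_top [Module.Flat A B] (u : (B ⊗[A] B)ˣ)
    (hu : in12 A B u * in23 A B u = in13 A B u) :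
    Ideal.span {c : B | (u : B ⊗[A] B) * (c ⊗ₜ 1) = 1 ⊗ₜ c} = ⊤ := by
  have hex : Function.Exact ((LinearMap.ker (twisted (u : B ⊗[A] B))).subtype.lTensor B)
      ((twisted (u : B ⊗[A] B)).lTensor B) :=
    Module.Flat.lTensor_exact B (LinearMap.exact_subtype_ker_map _)
  obtain ⟨z, hz⟩ := (hex u).1 (by rw [lTensor_twisted, mul_comm, hu, sub_self])
  have hmem : ∀ z : B ⊗[A] LinearMap.ker (twisted (u : B ⊗[A] B)),
      Algebra.TensorProduct.lmul' A ((LinearMap.ker (twisted (u : B ⊗[A] B))).subtype.lTensor B z) ∈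
        Ideal.span {c : B | (u : B ⊗[A] B) * (c ⊗ₜ 1) = 1 ⊗ₜ c} := by
    intro z
    induction z using TensorProduct.induction_on with
    | zero => simp only [map_zero, Ideal.zero_mem]
    | add x y hx hy => simp only [map_add]; exact Ideal.add_mem _ hx hy
    | tmul b c =>
      rw [LinearMap.lTensor_tmul, Algebra.TensorProduct.lmul'_apply_tmul]
      refine Ideal.mul_mem_left _ _ (Ideal.subset_span ?_)
      have hc := LinearMap.mem_ker.1 c.2
      rw [twisted_apply, sub_eq_zero] at hc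
      exact hc
  refine Ideal.eq_top_of_isUnit_mem _ (hz ▸ hmem z) ?_
  exact u.isUnit.map _

theorem exists_coboundary_away [Module.Flat A B]
    [Flat (Spec.map (CommRingCat.ofHom (algebraMap A B)))]
    [LocallyOfFinitePresentation (Spec.map (CommRingCat.ofHom (algebraMap A B)))]
    [Surjective (Spec.map (CommRingCat.ofHom (algebraMap A B)))]
    (u : (B ⊗[A] B)ˣ) (hu : in12 A B u * in23 A B u = in13 A B u) (p : PrimeSpectrum A) :
    ∃ (f : A) (c : B), p ∈ PrimeSpectrum.basicOpen f ∧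
      (u : B ⊗[A] B) * (c ⊗ₜ 1) = 1 ⊗ₜ c ∧
      ∀ x : PrimeSpectrum B, algebraMap A B f ∉ x.asIdeal → c ∉ x.asIdeal := by
  let g : Spec (CommRingCat.of B) ⟶ Spec (CommRingCat.of A) :=
    Spec.map (CommRingCat.ofHom (algebraMap A B))
  obtain ⟨q, hq⟩ := g.surjective p
  obtain ⟨c, hc, hcq⟩ : ∃ c, (u : B ⊗[A] B) * (c ⊗ₜ 1) = 1 ⊗ₜ c ∧ c ∉ (q : PrimeSpectrum B).asIdeal := by
    by_contra hne
    push Not at hne
    exact (q : PrimeSpectrum B).isPrime.ne_top (top_le_iff.1
      ((span_twisted_eq_top u hu).ge.trans (Ideal.span_le.2 fun c hc => hne c hc)))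
  have hopen : IsOpen (g '' {x | c ∉ (x : PrimeSpectrum B).asIdeal}) :=
    isOpenMap_of_generalizingMap g (Flat.generalizingMap g) _ (PrimeSpectrum.basicOpen c).isOpen
  obtain ⟨_, ⟨f, rfl⟩, hpf, hfle⟩ :=
    PrimeSpectrum.isTopologicalBasis_basic_opens.exists_subset_of_mem_open
      (show p ∈ g '' {x | c ∉ (x : PrimeSpectrum B).asIdeal} from ⟨q, hcq, hq⟩) hopen
  refine ⟨f, c, hpf, hc, ?_⟩
  intro x hfx hcm
  obtain ⟨y, hy, hyx⟩ := hfle (a := g x) hfx
  obtain ⟨z, hzy, hzx⟩ := Scheme.Pullback.exists_preimage_pullback (f := g) (g := g) y x hyx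
  let r : PrimeSpectrum (B ⊗[A] B) := (pullbackSpecIso A B B).hom z
  have hry : PrimeSpectrum.comap (Algebra.TensorProduct.includeLeftRingHom) r = y := by
    rw [← hzy]
    exact (Scheme.Hom.comp_apply _ _ z).symm.trans (congrArg (fun m : _ ⟶ Spec (CommRingCat.of B) => m z)
      (pullbackSpecIso_hom_fst A B B))
  have hrx : PrimeSpectrum.comap
      ((Algebra.TensorProduct.includeRight : B →ₐ[A] B ⊗[A] B).toRingHom) r = x := by
    rw [← hzx]
    exact (Scheme.Hom.comp_apply _ _ z).symm.trans (congrArg (fun m : _ ⟶ Spec (CommRingCat.of B) => m z)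
      (pullbackSpecIso_hom_snd A B B))
  have h2 : (1 : B) ⊗ₜ[A] c ∈ r.asIdeal := by
    have : c ∈ x.asIdeal := hcm
    rw [← hrx] at this
    exact this
  rw [← hc] at h2
  rcases r.isPrime.mem_or_mem h2 with h | h
  · exact r.isPrime.ne_top (Ideal.eq_top_of_isUnit_mem _ h u.isUnit)
  · refine hy ?_
    rw [← hry]
    exact h

end Groth.Agent.FppfPic
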